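import Mathlib
import Cfsg.Agent.Prune
set_option linter.all false
prune_inst 0x7f00000000000000000000000000000000000000000000000000000000000000000000000000000000000000000000000000000000000000000000000000000000000000000000000000000000000000003fffffffffffffffffffffffffffbeffbdffffffff
open scoped Cfsg.Agent.FastGrp

/-!
# Common zeros of quadratic maps (Chevalley–Warning), helper920, S5717
-/

set_option autoImplicit false

namespace Cfsg.Agent.H920.FP

open MvPolynomial Module

section cw

variable {k Y : Type*} [Field k] [Finite k] [AddCommGroup Y] [Module k Y] [FiniteDimensional k Y]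

/-- fewer quadratic forms than half of the number of variables have a non-trivial common zero -/
theorem cw {ι : Type*} [Finite ι] (Q : ι → QuadraticForm k Y) (h : 2 * Nat.card ι < finrank k Y) :
    ∃ y : Y, y ≠ 0 ∧ ∀ i, Q i y = 0 := by
  classical
  have := Fintype.ofFinite k
  have := Fintype.ofFinite ι
  let b := finBasis k Y
  let C : ι → LinearMap.BilinForm k Y := fun i => (Q i).toBilin b
  have hC : ∀ i y, C i y y = Q i y := by
    intro i y
    have := QuadraticMap.toQuadraticMap_toBilin (Q i) b
    exact congrArg (fun q : QuadraticForm k Y => q y) this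
  let P : ι → MvPolynomial (Fin (finrank k Y)) k := fun i =>
    ∑ r, ∑ s, MvPolynomial.C (C i (b r) (b s)) * (X r * X s)
  have hP : ∀ i, (P i).totalDegree ≤ 2 := by
    intro i
    refine totalDegree_finsetSum_le fun r _ => totalDegree_finsetSum_le fun s _ => ?_
    refine (totalDegree_mul _ _).trans ?_
    rw [totalDegree_C, zero_add]
    refine (totalDegree_mul _ _).trans ?_
    rw [totalDegree_X, totalDegree_X]
  have hev : ∀ i x, eval x (P i) = Q i (∑ r, x r • b r) := by
    intro i x
    rw [← hC]
    simp only [P, map_sum, map_mul, eval_C, eval_X, LinearMap.sum_apply, LinearMap.map_smul, LinearMap.smul_apply,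
      smul_eq_mul]
    rw [Finset.sum_comm]
    refine Finset.sum_congr rfl fun r _ => ?_
    refine Finset.sum_congr rfl fun s _ => ?_
    ring
  obtain ⟨p, hp⟩ := CharP.exists k
  have hpp : p.Prime := CharP.char_is_prime k p
  have hd : (∑ i, (P i).totalDegree) < Fintype.card (Fin (finrank k Y)) := by
    refine lt_of_le_of_lt (Finset.sum_le_sum fun i _ => hP i) ?_
    rw [Finset.sum_const, Finset.card_univ, smul_eq_mul, Fintype.card_fin, mul_comm, ← Nat.card_eq_fintype_card]
    exact h
  have h1 := char_dvd_card_solutions_of_fintype_sum_lt p hd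
  have h0 : ∀ i, eval (0 : Fin (finrank k Y) → k) (P i) = 0 := by
    intro i
    rw [hev]
    simp
  have h2 : 1 < Fintype.card {x : Fin (finrank k Y) → k // ∀ i, eval x (P i) = 0} := by
    have h3 : 0 < Fintype.card {x : Fin (finrank k Y) → k // ∀ i, eval x (P i) = 0} :=
      Fintype.card_pos_iff.2 ⟨⟨0, h0⟩⟩
    exact lt_of_lt_of_le hpp.one_lt (Nat.le_of_dvd h3 h1)
  obtain ⟨⟨x, hx⟩, hne⟩ := Fintype.exists_ne_of_one_lt_card h2 ⟨0, h0⟩
  refine ⟨∑ r, x r • b r, ?_, fun i => by rw [← hev]; exact hx i⟩
  intro h3
  apply hne
  apply Subtype.ext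
  funext r
  have h4 := congrArg (fun y => b.repr y r) h3
  simp only [map_zero, Finsupp.coe_zero, Pi.zero_apply] at h4
  rwa [b.repr_sum_self] at h4

end cw

section field

variable {k F Y : Type*} [Field k] [Finite k] [Field F] [Finite F] [Algebra k F] [AddCommGroup Y] [Module F Y]
  [Module k Y] [IsScalarTower k F Y]

/-- two `F`-valued quadratic maps over the subfield `k` have a common zero in dimension five over `F` -/
theorem zero_two (Q R : QuadraticMap k Y F) (h5 : 5 ≤ finrank F Y) : ∃ y : Y, y ≠ 0 ∧ Q y = 0 ∧ R y = 0 := by
  have hkF : FiniteDimensional k F := inferInstance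
  have hFY : FiniteDimensional F Y := FiniteDimensional.of_finrank_pos (by omega)
  have hkY : FiniteDimensional k Y := FiniteDimensional.trans k F Y
  let c := finBasis k F
  let T : Bool × Fin (finrank k F) → QuadraticForm k Y := fun i =>
    (c.coord i.2).compQuadraticMap (cond i.1 Q R)
  have hpos : 0 < finrank k F := finrank_pos
  have h1 : 2 * Nat.card (Bool × Fin (finrank k F)) < finrank k Y := by
    rw [Nat.card_prod, Nat.card_eq_fintype_card (α := Bool), Fintype.card_bool, Nat.card_eq_fintype_card,
      Fintype.card_fin, ← finrank_mul_finrank k F Y]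
    nlinarith
  obtain ⟨y, hy, h⟩ := cw T h1
  refine ⟨y, hy, ?_, ?_⟩
  · apply c.ext_elem
    intro i
    have := h (true, i)
    simpa [T] using this
  · apply c.ext_elem
    intro i
    have := h (false, i)
    simpa [T] using this

/-- an `F`-valued quadratic map over the subfield `k` has a zero in dimension three over `F` -/
theorem zero_one (Q : QuadraticMap k Y F) (h5 : 3 ≤ finrank F Y) : ∃ y : Y, y ≠ 0 ∧ Q y = 0 := by
  have hkF : FiniteDimensional k F := inferInstance
  have hFY : FiniteDimensional F Y := FiniteDimensional.of_finrank_pos (by omega)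
  have hkY : FiniteDimensional k Y := FiniteDimensional.trans k F Y
  let c := finBasis k F
  let T : Fin (finrank k F) → QuadraticForm k Y := fun i => (c.coord i).compQuadraticMap Q
  have hpos : 0 < finrank k F := finrank_pos
  have h1 : 2 * Nat.card (Fin (finrank k F)) < finrank k Y := by
    rw [Nat.card_eq_fintype_card, Fintype.card_fin, ← finrank_mul_finrank k F Y]
    nlinarith
  obtain ⟨y, hy, h⟩ := cw T h1
  refine ⟨y, hy, ?_⟩
  apply c.ext_elem
  intro i
  have := h i
  simpa [T] using this

end field

end Cfsg.Agent.H920.FP
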